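import Cfsg.Agent.H153.Dl.RFi24
import Cfsg.Agent.H648.Loc.Value_m3
import Cfsg.Agent.H454.Dl.Crit
import Cfsg.Agent.CharDeep.CliffordCorr
import Cfsg.Agent.OddOrderCharacters.IndRes
import Cfsg.Agent.H424.DegTools
import Cfsg.Agent.Prune
set_option linter.all false

section
prune_inst 0x7f00000000000000000000000000000000000000000000000000000000000000000000000000000000000000000000000000000000000000000000000000000000000000000000000000000000000000003ffff7ffffffffffffffffffffffbeffbdefffffff

-- part: H153/Dl/Cls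
section
set_option linter.all false
open scoped Cfsg.Agent.FastGrp

/-!
# Classes separated by an invariant (helper153)

* `card_le_of_sig` : elements with different values of a class invariant lie in different classes;
* `PR.chkP`, `PR.chkPs` : the numbers of fixed points of two powers of a word.
-/

set_option autoImplicit false
set_option maxRecDepth 100000

namespace Cfsg.Agent.H153.Dl

open Cfsg

/-- Classes separated by a class invariant. -/
theorem card_le_of_sig {H α : Type*} [Group H] [Finite H] (sig : H → α)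
    (hs : ∀ g h : H, IsConj g h → sig g = sig h) (l : List H) (hnd : (l.map sig).Nodup) :
    l.length ≤ Nat.card (ConjClasses H) := by
  have h := H593.IMRank.card_le_conjClasses (G := H) (fun i : Fin l.length => l.get i)
    (fun i j hij => by
      have h1 := hs _ _ hij
      have h2 := List.nodup_iff_injective_get.1 hnd
      have hi : i.val < (l.map sig).length := by rw [List.length_map]; exact i.2
      have hj : j.val < (l.map sig).length := by rw [List.length_map]; exact j.2
      have h3 : (l.map sig).get ⟨i.val, hi⟩ = (l.map sig).get ⟨j.val, hj⟩ := by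
        simp only [List.get_eq_getElem, List.getElem_map]
        exact h1
      have h4 := h2 h3
      exact Fin.ext (Fin.mk.inj h4))
  rwa [Fintype.card_fin] at h

namespace PR

variable {G : Type} [Group G] {R : PR G} {k : ℕ}

/-- the kernel check: the numbers of fixed points of two powers of a word -/
noncomputable def chkP (R : PR G) (k e f : ℕ) (q : List R.Lt × ℕ × ℕ) : Bool :=
  Bool.and (Nat.beq (Lib.PermNetOrbit.pc k (fxm R k (rep e q.1))) q.2.1)
    (Nat.beq (Lib.PermNetOrbit.pc k (fxm R k (rep f q.1))) q.2.2)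

theorem chkP_spec (C : R.Cnt k) {e f : ℕ} {q : List R.Lt × ℕ × ℕ} (h : chkP R k e f q = true) :
    (R.Fx (R.word q.1 ^ e), R.Fx (R.word q.1 ^ f)) = q.2 := by
  unfold chkP at h
  have h' := Bool.and_eq_true_iff.1 h
  rw [← R.word_rep, ← R.word_rep, Fx_word C, Fx_word C]
  exact Prod.ext (Nat.eq_of_beq_eq_true h'.1) (Nat.eq_of_beq_eq_true h'.2)

/-- the kernel check of a list of entries -/
noncomputable def chkPs (R : PR G) (k e f : ℕ) (l : List (List R.Lt × ℕ × ℕ)) : Bool :=
  List.rec (motive := fun _ => Bool) true (fun q _ ih => Bool.and (chkP R k e f q) ih) l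

theorem chkPs_spec (C : R.Cnt k) {e f : ℕ} {l : List (List R.Lt × ℕ × ℕ)} (h : chkPs R k e f l = true) :
    (l.map fun q => (R.Fx (R.word q.1 ^ e), R.Fx (R.word q.1 ^ f))) = l.map fun q => q.2 := by
  induction l with
  | nil => rfl
  | cons a l ih =>
    have h' : (chkP R k e f a && chkPs R k e f l) = true := h
    rw [Bool.and_eq_true] at h'
    rw [List.map_cons, List.map_cons, chkP_spec C h'.1, ih h'.2]

theorem Fx_pow_isConj (C : R.Cnt k) {g g' : G} (h : IsConj g g') (e : ℕ) : R.Fx (g ^ e) = R.Fx (g' ^ e) := by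
  obtain ⟨c, rfl⟩ := isConj_iff.1 h
  rw [conj_pow, Fx_conj C]

/-- **Classes separated by the numbers of fixed points of two powers.** -/
theorem card_le_conjClasses_pow [Finite G] (C : R.Cnt k) {e f : ℕ} (tab : List (List R.Lt × ℕ × ℕ))
    (h : chkPs R k e f tab = true) (hnd : (tab.map fun q => q.2).Nodup) :
    tab.length ≤ Nat.card (ConjClasses G) := by
  have h1 := card_le_of_sig (fun g : G => (R.Fx (g ^ e), R.Fx (g ^ f)))
    (fun g g' hg => by rw [Fx_pow_isConj C hg, Fx_pow_isConj C hg]) (tab.map fun q => R.word q.1)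
    (by rw [List.map_map]; exact (chkPs_spec C h).symm ▸ hnd)
  rwa [List.length_map] at h1

end PR

end Cfsg.Agent.H153.Dl
end

-- part: H153/Dl/K24/O3
section
set_option linter.all false

/-!
# `Fi24` : numbers of fixed points of words, table O3 (helper153)

Generated data and kernel checks: `(w, f₁, f₂)` with `f₁`, `f₂` the numbers of fixed points of `w` and `w²`.
-/

set_option autoImplicit false
set_option maxRecDepth 100000
set_option Elab.async false

namespace Cfsg.Agent.H153.Dl.K24

open Cfsg Cfsg.Agent.H153.Dl Cfsg.Agent.H153.Dl.PR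
open Cfsg.Spor.Fi24 (Gen)

section
open Cfsg.Agent.Lib.PermNet Cfsg.Agent.Lib.PermNetFix Cfsg.Agent.Fischer.Fi24RepDef Cfsg.Agent.Fischer.Fi24Rep
open Cfsg.Agent.Fischer.Fi24RepOrb (UG)

/-- Do the two generators commute? -/
private def cmB (x y : Gen) : Bool :=
  Bool.rec (Bool.rec true (Bool.rec true false (adj y x)) (fst y)) (Bool.rec (Bool.rec true false (adj x y)) true (fst y)) (fst x)

private theorem cmB_spec {x y : Gen} (h : cmB x y = true) : rho0 x * rho0 y = rho0 y * rho0 x := by
  have key : fst x = fst y ∨ (fst x = true ∧ fst y = false ∧ adj x y = false) ∨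
      (fst y = true ∧ fst x = false ∧ adj y x = false) := by
    revert h; cases x <;> cases y <;> decide
  rcases key with h | ⟨h1, h2, h3⟩ | ⟨h1, h2, h3⟩
  · exact rho0_comm_same h
  · exact rho0_comm_mixed h1 h2 h3
  · exact (rho0_comm_mixed h1 h2 h3).symm

private theorem prd_cons' (x : Gen) (l : List Gen) : prd (x :: l) = rho0 x * prd l := List.prod_cons

private theorem prd_app' (u v : List Gen) : prd (u ++ v) = prd u * prd v := by
  induction u with
  | nil => exact (one_mul _).symm
  | cons a u ih => exact (prd_cons' a _).trans ((congrArg (fun t => rho0 a * t) ih).trans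
      ((mul_assoc _ _ _).symm.trans (congrArg (fun t => t * prd v) (prd_cons' a u).symm)))

/-- The first `x` of the word is moved to the front and removed. -/
private noncomputable def pullG (x : Gen) (v : List Gen) : (List Gen → Bool) → Bool :=
  List.rec (motive := fun _ => (List Gen → Bool) → Bool) (fun _ => false)
    (fun y v ih k => Bool.rec (Bool.rec false (ih fun v' => k (y :: v')) (cmB x y)) (k v) (decide (y = x))) v

private theorem pullG_spec (x : Gen) : ∀ (v : List Gen) (k : List Gen → Bool), pullG x v k = true →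
    ∃ v', k v' = true ∧ prd v = rho0 x * prd v'
  | [], _, h => Bool.noConfusion h
  | y :: v, k, h => by
    replace h : (Bool.rec (Bool.rec false (pullG x v fun v' => k (y :: v')) (cmB x y)) (k v) (decide (y = x)) : Bool) = true := h
    cases h1 : decide (y = x) with
    | true =>
      rw [h1] at h
      exact ⟨v, h, of_decide_eq_true h1 ▸ prd_cons' y v⟩
    | false =>
      rw [h1] at h
      cases h2 : cmB x y with
      | false => rw [h2] at h; exact Bool.noConfusion h
      | true =>
        rw [h2] at h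
        obtain ⟨v', h3, h4⟩ := pullG_spec x v _ h
        refine ⟨y :: v', h3, ?_⟩
        rw [prd_cons', prd_cons', h4, ← mul_assoc, ← mul_assoc, cmB_spec h2]

/-- Equality of words up to commuting letters. -/
private noncomputable def eqT (u : List Gen) : List Gen → Bool :=
  List.rec (motive := fun _ => List Gen → Bool) (fun v => List.rec true (fun _ _ _ => false) v)
    (fun x _ ih v => pullG x v ih) u

private theorem eqT_spec : ∀ u v : List Gen, eqT u v = true → prd u = prd v
  | [], [], _ => rfl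
  | [], _ :: _, h => Bool.noConfusion h
  | x :: u, v, h => by
    obtain ⟨v', h1, h2⟩ := pullG_spec x v (eqT u) h
    rw [prd_cons', h2, eqT_spec u v' h1]

private theorem rw_prd (l : List Gen) : R24.rho (R24.word l) = prd l := (rho_word l).trans (prd_eq l)

/-- The moved points, on the planes cut down to the points which are counted. -/
private noncomputable def mvU (w : List Net) (m : ℕ) : ℕ :=
  Nat.rec (motive := fun _ => ℕ) 0 (fun b ih => seq (Nat.land (plane 19 b) UG) fun P =>
    seq (appWord w P) fun x => Nat.lor (Nat.xor x P) ih) m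

private theorem mvU_bit (l : List Gen) {p : ℕ} (hp : UG.testBit p = true) : ∀ m : ℕ,
    (mvU (nw l false) m).testBit p = (movedAux 19 (nw l false) m).testBit p
  | 0 => rfl
  | m + 1 => by
    have e : mvU (nw l false) (m + 1) = (appWord (nw l false) (plane 19 m &&& UG) ^^^ (plane 19 m &&& UG)) ||| mvU (nw l false) m :=
      (seq_eq (Nat.land (plane 19 m) UG) fun P => seq (appWord (nw l false) P) fun x => Nat.lor (Nat.xor x P) (mvU (nw l false) m)).trans
        (seq_eq (appWord (nw l false) (plane 19 m &&& UG)) fun x => Nat.lor (Nat.xor x (plane 19 m &&& UG)) (mvU (nw l false) m))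
    have hq : UG.testBit (wperm (nw l false) p) = true := by
      rw [← rho_word]; exact cnt24.inv _ p hp
    rw [e, movedAux_succ, Nat.testBit_or, Nat.testBit_or, mvU_bit l hp m, Nat.testBit_xor, Nat.testBit_xor,
      testBit_appWord (wok l false), testBit_appWord (wok l false), Nat.testBit_and, Nat.testBit_and, hp, hq,
      Bool.and_true, Bool.and_true]

private noncomputable def cntU (l : List Gen) : ℕ :=
  Lib.PermNetOrbit.pc 19 (seq (mvU (nw l false) 19) fun x => Nat.xor UG (Nat.land UG x))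

private theorem cntU_eq (l : List Gen) : cntU l = R24.Fx (R24.word l) := by
  have e : UG &&& mvU (nw l false) 19 = UG &&& moved 19 (nw l false) := by
    apply Nat.eq_of_testBit_eq
    intro p
    rw [Nat.testBit_and, Nat.testBit_and]
    cases hp : UG.testBit p with
    | false => rw [Bool.false_and, Bool.false_and]
    | true => exact congrArg (fun t => true && t) (mvU_bit l hp 19)
  have e1 : (seq (mvU (nw l false) 19) fun x => Nat.xor UG (Nat.land UG x)) = UG ^^^ (UG &&& mvU (nw l false) 19) :=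
    seq_eq (mvU (nw l false) 19) fun x => Nat.xor UG (Nat.land UG x)
  have e2 : fxm R24 19 l = UG ^^^ (UG &&& moved 19 (nw l false)) := fxm_eq (R := R24) (k := 19) l
  have e3 : (seq (mvU (nw l false) 19) fun x => Nat.xor UG (Nat.land UG x)) = fxm R24 19 l := by rw [e1, e2, e]
  delta cntU
  rw [e3]
  exact (Fx_word cnt24 l).symm

private theorem Fx_of {l l' c : List Gen} (h : prd l * prd c = prd c * prd l') : R24.Fx (R24.word l) = R24.Fx (R24.word l') := by
  refine Eq.trans ?_ (Fx_conj cnt24 (R24.word c) (R24.word l'))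
  refine congrArg (fun s : Equiv.Perm ℕ => {p : ℕ | R24.U.testBit p = true ∧ s p = p}.ncard)
    (show R24.rho (R24.word l) = R24.rho (R24.word c * R24.word l' * (R24.word c)⁻¹) from ?_)
  rw [R24.rho.map_mul, R24.rho.map_mul, R24.rho.map_inv, rw_prd, rw_prd, rw_prd, ← h, mul_inv_cancel_right]

/-- The numbers are those of a conjugate word with fewer changes of the numbering. -/
private theorem chk_of {l : List Gen} {f g : ℕ} (l₀ c l' : List Gen) (h₀ : prd l = prd l₀)
    (h : Bool.rec false (Bool.rec false (Nat.beq (cntU (l' ++ l')) g) (Nat.beq (cntU l') f)) (eqT (l₀ ++ c) (c ++ l')) = true) :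
    chk R24 19 (l, f, g) = true := by
  cases h1 : eqT (l₀ ++ c) (c ++ l') with
  | false => rw [h1] at h; exact Bool.noConfusion h
  | true =>
    rw [h1] at h
    cases h2 : Nat.beq (cntU l') f with
    | false => rw [h2] at h; exact Bool.noConfusion h
    | true =>
      rw [h2] at h
      have h3 : prd l * prd c = prd c * prd l' := by
        rw [h₀, ← prd_app', ← prd_app']
        exact eqT_spec _ _ h1
      have h4 : prd (l ++ l) * prd c = prd c * prd (l' ++ l') := by
        rw [prd_app', prd_app', mul_assoc, h3, ← mul_assoc, h3, mul_assoc]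
      have e1 : Lib.PermNetOrbit.pc 19 (fxm R24 19 l) = cntU l' :=
        (Fx_word cnt24 l).symm.trans ((Fx_of h3).trans (cntU_eq l').symm)
      have e2 : Lib.PermNetOrbit.pc 19 (fxm R24 19 (l ++ l)) = cntU (l' ++ l') :=
        (Fx_word cnt24 (l ++ l)).symm.trans ((Fx_of h4).trans (cntU_eq (l' ++ l')).symm)
      exact Bool.and_eq_true_iff.2 ⟨(congrArg (fun t => Nat.beq t f) e1).trans h2, (congrArg (fun t => Nat.beq t g) e2).trans h⟩

end

theorem O3_0 : chk R24 19 ([.e, .d, .i, .c, .h], 12, 120) = true :=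
  chk_of [.e, .d, .i, .c, .h] [] [.e, .d, .i, .c, .h] rfl (by decide +kernel)

theorem O3_1 : chk R24 19 ([.i, .g, .l, .b, .c], 48, 3240) = true :=
  chk_of [.i, .g, .l, .b, .c] [] [.b, .i, .c, .g, .l] rfl (by decide +kernel)

theorem O3_2 : chk R24 19 ([.h, .d, .l, .e, .k, .b, .a], 10, 12) = true :=
  chk_of [.h, .d, .l, .e, .k, .b, .a] [] [.h, .l, .b, .d, .k, .e, .a] rfl (by decide +kernel)

theorem O3_3 : chk R24 19 ([.j, .l, .d, .g, .c, .a, .k], 18, 38) = true :=
  chk_of [.j, .l, .d, .g, .c, .a, .k] [] [.a, .l, .d, .j, .k, .c, .g] rfl (by decide +kernel)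

theorem O3_4 : chk R24 19 ([.f, .h, .a, .j, .l, .k, .d], 12, 128) = true :=
  chk_of [.f, .h, .a, .j, .l, .k, .d] [] [.a, .h, .l, .f, .d, .j, .k] rfl (by decide +kernel)

theorem O3_5 : chk R24 19 ([.b, .k, .a, .g, .e, .h, .f], 40, 504) = true :=
  chk_of [.b, .k, .a, .g, .e, .h, .f] [] [.e, .g, .h, .b, .f, .k, .a] rfl (by decide +kernel)

theorem O3_6 : chk R24 19 ([.e, .f, .b, .d, .c, .a, .h, .g, .k], 1, 1) = true :=
  chk_of [.e, .f, .b, .d, .c, .a, .h, .g, .k] [.e, .b, .d, .f] [.a, .c, .e, .g, .h, .b, .f, .d, .k] rfl (by decide +kernel)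

theorem O3_7 : chk R24 19 ([.f, .d, .e, .j, .b, .g, .a, .h, .k], 3, 5) = true :=
  chk_of [.f, .d, .e, .j, .b, .g, .a, .h, .k] [.b] [.a, .b, .d, .f, .j, .k, .e, .h, .g] rfl (by decide +kernel)

theorem O3_8 : chk R24 19 ([.j, .f, .l, .i, .c, .h, .g, .a, .e], 3, 15) = true :=
  chk_of [.j, .f, .l, .i, .c, .h, .g, .a, .e] [] [.a, .c, .l, .f, .i, .j, .e, .h, .g] rfl (by decide +kernel)

theorem O3_9 : chk R24 19 ([.i, .g, .a, .l, .e, .d, .f, .h, .c], 3, 45) = true :=
  chk_of [.i, .g, .a, .l, .e, .d, .f, .h, .c] [] [.a, .e, .g, .l, .d, .f, .i, .c, .h] rfl (by decide +kernel)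

theorem O3_10 : chk R24 19 ([.c, .g, .b, .f, .h, .a, .l, .i, .e, .k, .j], 0, 0) = true :=
  chk_of [.c, .g, .b, .f, .h, .a, .l, .i, .e, .k, .j] [.c, .b] [.a, .c, .g, .h, .l, .b, .f, .i, .j, .k, .e] rfl (by decide +kernel)

/-- The table. -/
def O3 : List (List Gen × ℕ × ℕ) := [([.e, .d, .i, .c, .h], 12, 120),
  ([.i, .g, .l, .b, .c], 48, 3240),
  ([.h, .d, .l, .e, .k, .b, .a], 10, 12),
  ([.j, .l, .d, .g, .c, .a, .k], 18, 38),
  ([.f, .h, .a, .j, .l, .k, .d], 12, 128),
  ([.b, .k, .a, .g, .e, .h, .f], 40, 504),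
  ([.e, .f, .b, .d, .c, .a, .h, .g, .k], 1, 1),
  ([.f, .d, .e, .j, .b, .g, .a, .h, .k], 3, 5),
  ([.j, .f, .l, .i, .c, .h, .g, .a, .e], 3, 15),
  ([.i, .g, .a, .l, .e, .d, .f, .h, .c], 3, 45),
  ([.c, .g, .b, .f, .h, .a, .l, .i, .e, .k, .j], 0, 0)]

theorem O3_ok : ∀ q ∈ O3, chk R24 19 q = true :=
  List.forall_mem_cons.2 ⟨O3_0, (List.forall_mem_cons.2 ⟨O3_1, (List.forall_mem_cons.2 ⟨O3_2, (List.forall_mem_cons.2 ⟨O3_3, (List.forall_mem_cons.2 ⟨O3_4, (List.forall_mem_cons.2 ⟨O3_5, (List.forall_mem_cons.2 ⟨O3_6, (List.forall_mem_cons.2 ⟨O3_7, (List.forall_mem_cons.2 ⟨O3_8, (List.forall_mem_cons.2 ⟨O3_9, (List.forall_mem_cons.2 ⟨O3_10, (fun _ h => absurd h (by simp))⟩)⟩)⟩)⟩)⟩)⟩)⟩)⟩)⟩)⟩)⟩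

end Cfsg.Agent.H153.Dl.K24
end

-- part: H153/Dl/A24/X
section
set_option linter.all false

/-!
# An element of order 16 in `Fi24` : the words (helper153)

Generated data.
-/

set_option autoImplicit false
set_option maxRecDepth 100000
set_option Elab.async false

namespace Cfsg.Agent.H153.Dl.A24

open Cfsg Cfsg.Agent.Lib.PermNetPt Cfsg.Agent.H153.Dl Cfsg.Agent.H153.Dl.PR
open Cfsg.Spor.Fi24 (Gen)

def xw : List Gen := [.i, .f, .d, .e, .g, .c, .b, .j, .c, .h, .f, .d, .h, .j, .i, .e, .d, .h, .c, .a, .k, .f]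

def y0a : List Gen := [.d, .h, .f, .e, .d, .c, .d, .e, .f, .h, .d]

def y1a : List Gen := [.e, .i, .k, .a, .d, .h, .e, .f, .d, .e, .c, .d, .h, .i, .g, .f, .e, .d, .h, .c, .d, .e, .f, .g, .i, .h, .e, .f, .d, .e, .c, .d, .h, .i, .e, .f, .d, .e, .c, .d, .h, .c, .d, .e, .b, .c, .d, .b, .c, .i]

def u : List Gen := [.j, .g, .f, .e, .b, .c, .d, .h, .i, .e, .f, .d, .e, .b, .c, .d, .h, .g, .f, .e, .d, .c, .b]

end Cfsg.Agent.H153.Dl.A24
end

-- part: H153/Dl/SCnz
section
set_option linter.all false
open scoped Cfsg.Agent.FastGrp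

/-!
# Structure constants and degrees divisible by `p`, nonvanishing version (helper153)

`exists_of_inverted` : an involution `t` inverts `g`, `|C(g)|` is odd and prime to `p` and `|G|_p` does not divide
`|C(t)|²`; then some irreducible character `χ` with `χ(g) ≠ 0` has degree divisible by `p`.
After helper672's `H672.SC`.
-/

set_option autoImplicit false

open Cfsg

namespace Cfsg.Agent.H153.Dl

open Cfsg.Agent.Characters.Core Cfsg.Agent.H672.SC

universe u

variable {G : Type u} [Group G]

local notation "conj" => starRingEnd ℂ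

theorem exists_coprime_mul_nz [Finite G] {p : ℕ} [hp : Fact p.Prime] (a b g : G)
    (h : ∀ χ : IrrCharacter G, (χ : G → ℂ) g ≠ 0 → ¬ p ∣ charDegree (χ : G → ℂ)) :
    ∃ m : ℕ, ¬ p ∣ m ∧ Nat.card G ∣ m * (npairs a b g *
      (Nat.card (Subgroup.centralizer ({a} : Set G)) *
        Nat.card (Subgroup.centralizer ({b} : Set G)))) := by
  classical
  have : Finite (IrrCharacter G) := finite_irr
  have : Fintype (IrrCharacter G) := Fintype.ofFinite _
  have hdeg : ∀ χ : IrrCharacter G, (χ : G → ℂ) 1 = (charDegree (χ : G → ℂ) : ℂ) := fun χ =>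
    Cfsg.Agent.Blocks.Basic.irr_one_eq_charDegree χ.2
  have hpos : ∀ χ : IrrCharacter G, charDegree (χ : G → ℂ) ≠ 0 := fun χ =>
    (Cfsg.Agent.Blocks.Basic.charDegree_pos χ.2).ne'
  set A : Finset (IrrCharacter G) := Finset.univ.filter fun χ : IrrCharacter G => (χ : G → ℂ) g ≠ 0 with hA
  refine ⟨∏ χ ∈ A, charDegree (χ : G → ℂ), ?_, ?_⟩
  · intro hd
    obtain ⟨χ, h1, hχ⟩ := (Prime.dvd_finsetProd_iff hp.out.prime _).1 hd
    exact h χ (Finset.mem_filter.1 h1).2 hχ
  · set m := ∏ χ ∈ A, charDegree (χ : G → ℂ) with hm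
    have hG : (Nat.card G : ℂ) ≠ 0 := by exact_mod_cast Nat.card_pos.ne'
    apply Cfsg.Agent.Characters.DegreeBounds.nat_dvd_of_isIntegral_div Nat.card_pos.ne'
    have h1 := Cfsg.Agent.Characters.ClassMul.card_class_mul a b g
    have ha : (Nat.card (Subgroup.centralizer ({a} : Set G)) : ℂ) *
        ((Subgroup.centralizer ({a} : Set G)).index : ℂ) = (Nat.card G : ℂ) := by
      exact_mod_cast Subgroup.card_mul_index _
    have hb : (Nat.card (Subgroup.centralizer ({b} : Set G)) : ℂ) *
        ((Subgroup.centralizer ({b} : Set G)).index : ℂ) = (Nat.card G : ℂ) := by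
      exact_mod_cast Subgroup.card_mul_index _
    set S : ℂ := ∑ χ : IrrCharacter G,
        (χ : G → ℂ) a * (χ : G → ℂ) b * conj ((χ : G → ℂ) g) / (χ : G → ℂ) 1 with hS
    have hmS : IsIntegral ℤ ((m : ℂ) * S) := by
      rw [hS, Finset.mul_sum]
      apply IsIntegral.sum
      intro χ _
      by_cases hχg : (χ : G → ℂ) g = 0
      · rw [hχg, map_zero, mul_zero, zero_div, mul_zero]
        exact isIntegral_zero
      have hχA : χ ∈ A := Finset.mem_filter.2 ⟨Finset.mem_univ _, hχg⟩
      have hsplit : (m : ℂ) = (charDegree (χ : G → ℂ) : ℂ) *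
          ∏ ψ ∈ A.erase χ, (charDegree (ψ : G → ℂ) : ℂ) := by
        rw [hm]
        push_cast
        rw [Finset.mul_prod_erase A (fun ψ : IrrCharacter G => (charDegree (ψ : G → ℂ) : ℂ)) hχA]
      have hne : (charDegree (χ : G → ℂ) : ℂ) ≠ 0 := by exact_mod_cast hpos χ
      have : (m : ℂ) * ((χ : G → ℂ) a * (χ : G → ℂ) b * conj ((χ : G → ℂ) g) / (χ : G → ℂ) 1) =
          (∏ ψ ∈ A.erase χ, (charDegree (ψ : G → ℂ) : ℂ)) *
          ((χ : G → ℂ) a * (χ : G → ℂ) b * conj ((χ : G → ℂ) g)) := by
        rw [hdeg χ, hsplit]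
        field_simp
      rw [this]
      have hχ : IsCharacter G (χ : G → ℂ) := by
        obtain ⟨n, ρ, -, h3⟩ := χ.2
        exact ⟨n, ρ, h3⟩
      refine IsIntegral.mul ?_ (((Characters.GaloisBasic.isIntegral_apply hχ a).mul
        (Characters.GaloisBasic.isIntegral_apply hχ b)).mul ?_)
      · apply IsIntegral.prod
        intro ψ _
        have h3 : IsIntegral ℤ (algebraMap ℤ ℂ (charDegree (ψ : G → ℂ) : ℤ)) :=
          isIntegral_algebraMap
        simpa using h3
      · exact (Characters.GaloisBasic.isIntegral_apply hχ g).map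
          ((Complex.conjAe : ℂ →ₐ[ℝ] ℂ).restrictScalars ℤ)
    have key : ((m * (npairs a b g * (Nat.card (Subgroup.centralizer ({a} : Set G)) *
        Nat.card (Subgroup.centralizer ({b} : Set G)))) : ℕ) : ℂ) / (Nat.card G : ℂ) =
        (m : ℂ) * S := by
      have h2 : (npairs a b g : ℂ) = ((Subgroup.centralizer ({a} : Set G)).index : ℂ) *
        ((Subgroup.centralizer ({b} : Set G)).index : ℂ) / (Nat.card G : ℂ) * S := h1
      push_cast
      rw [h2]
      rw [← ha]
      rw [← ha] at hG
      have hb' := hb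
      rw [← ha] at hb'
      have hca : (Nat.card (Subgroup.centralizer ({a} : Set G)) : ℂ) ≠ 0 := left_ne_zero_of_mul hG
      have hia : ((Subgroup.centralizer ({a} : Set G)).index : ℂ) ≠ 0 := right_ne_zero_of_mul hG
      field_simp
      linear_combination (m : ℂ) * S * hb'
    rw [key]
    exact hmS

/-- **Involution criterion, nonvanishing version.** -/
theorem exists_of_inverted [Finite G] {p : ℕ} [hp : Fact p.Prime] {t g : G} (ht : t * t = 1)
    (hg : t * g * t⁻¹ = g⁻¹)
    (hodd : Odd (Nat.card (Subgroup.centralizer ({g} : Set G))))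
    (hpg : ¬ p ∣ Nat.card (Subgroup.centralizer ({g} : Set G))) {k : ℕ}
    (hk : p ^ k ∣ Nat.card G)
    (h : ¬ p ^ k ∣ Nat.card (Subgroup.centralizer ({t} : Set G)) ^ 2) :
    ∃ χ : IrrCharacter G, (χ : G → ℂ) g ≠ 0 ∧ p ∣ charDegree (χ : G → ℂ) := by
  by_contra hcon
  push Not at hcon
  obtain ⟨m, hm, hd⟩ := exists_coprime_mul_nz (p := p) t t g hcon
  have h0 : (p ^ k).Coprime m := Nat.Coprime.pow_left _ ((Nat.Prime.coprime_iff_not_dvd hp.out).2 hm)
  have hd' := h0.dvd_of_dvd_mul_left (hk.trans hd)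
  apply h
  have h1 : ¬ p ∣ npairs t t g := fun h2 => hpg (h2.trans (npairs_dvd ht hg hodd))
  have h2 : (p ^ k).Coprime (npairs t t g) :=
    Nat.Coprime.pow_left _ ((Nat.Prime.coprime_iff_not_dvd hp.out).2 h1)
  rw [sq]
  exact h2.dvd_of_dvd_mul_left hd'

end Cfsg.Agent.H153.Dl
end

-- part: H153/Dl/Down
section
set_option linter.all false
open scoped Cfsg.Agent.FastGrp

/-!
# `Many` for a normal subgroup by counting in the group (helper153)

* `card_over_le` : at most `|G : N|` irreducible characters lie over an irreducible character of `N`;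
* `many_down` : counting the irreducible characters of `G` of degree divisible by `p`, `p ∤ |G : N|`.
-/

set_option autoImplicit false

namespace Cfsg.Agent.H153.Dl

open Cfsg Cfsg.Agent.H246.Dl Cfsg.Agent.H454.DlCrit Cfsg.Agent.Characters.Core Cfsg.Agent.CharDeep.CliffordCorr

universe u

/-- At most `|G : N|` irreducible characters lie over an irreducible character of `N`. -/
theorem card_over_le {G : Type u} [Group G] [Fintype G] (N : Subgroup G) [N.Normal] [Fintype N] (θ : IrrCharacter N)
    (A : Finset (IrrCharacter G)) (hA : ∀ χ ∈ A, classInner (fun n : N => (χ : G → ℂ) n) (θ : N → ℂ) ≠ 0) :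
    A.card ≤ N.index := by
  classical
  have := finite_irr (G := G)
  have := Fintype.ofFinite (IrrCharacter G)
  obtain ⟨c, hc, hc'⟩ := exists_nat_coeffs_indFun N (isIrr_isCharacter θ.2)
  obtain ⟨d, hd0, hd⟩ := isIrr_apply_one θ.2
  choose dd hdd0 hdd using fun χ : IrrCharacter G => isIrr_apply_one χ.2
  have h1 : N.index * d = ∑ χ : IrrCharacter G, c χ * dd χ := by
    have h2 := congrFun hc 1
    rw [Cfsg.Agent.OddOrderCharacters.IndRes.indFun_apply_one, hd] at h2
    simp only [Finset.sum_apply, Pi.smul_apply, smul_eq_mul, hdd] at h2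
    exact_mod_cast h2
  have h3 : ∀ χ ∈ A, d ≤ c χ * dd χ := by
    intro χ hχ
    have h4 := (S0887.result N (χ : G → ℂ) χ.2 (θ : N → ℂ) θ.2 (hA χ hχ) (dd χ) d (hdd χ) hd).1
    have h5 : d ≤ dd χ := Nat.le_of_dvd ((hdd0 χ)) h4
    have h6 : c χ ≠ 0 := by
      intro h0
      have h7 := hc' χ
      rw [h0, Nat.cast_zero] at h7
      apply hA χ hχ
      rw [← classInner_conj_symm, h7, map_zero]
    calc d ≤ dd χ := h5
      _ = 1 * dd χ := (one_mul _).symm
      _ ≤ c χ * dd χ := Nat.mul_le_mul_right _ (Nat.pos_of_ne_zero h6)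
  have h8 : A.card * d ≤ N.index * d := by
    rw [h1, ← smul_eq_mul, ← Finset.sum_const]
    exact (Finset.sum_le_sum h3).trans (Finset.sum_le_sum_of_subset (Finset.subset_univ _))
  exact Nat.le_of_mul_le_mul_right h8 hd0

open H670.PSing in
/-- **`Many` for a normal subgroup of index prime to `p`.** -/
theorem many_down {G : Type u} [Group G] [Finite G] (N : Subgroup G) [N.Normal] {p : ℕ} (hp : p.Prime)
    (hN : ¬ p ∣ N.index) {x : G} (hx : ∃ j : ℕ, orderOf x = p ^ j) {m o b c : ℕ} (ho : Nat.card (OutQ N) ≤ o)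
    (hb : Nat.card (Subgroup.centralizer ({x} : Set G)) ≤ b) (hc : c ≤ Nat.card (ConjClasses G))
    (h : (m - 1) * o * N.index + b < c) : Many p N m := by
  classical
  have hf : Fact p.Prime := ⟨hp⟩
  have := Fintype.ofFinite G
  have := Fintype.ofFinite N
  have := finite_irr (G := G)
  have := Fintype.ofFinite (IrrCharacter G)
  have := finite_irr (G := N)
  have := Fintype.ofFinite (IrrCharacter N)
  set B : Finset (IrrCharacter G) := Finset.univ.filter fun χ : IrrCharacter G => p ∣ charDegree (χ : G → ℂ) with hB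
  have hBc : Nat.card (ConjClasses G) ≤ B.card + b :=
    card_irr_filter (fun χ : IrrCharacter G => p ∣ charDegree (χ : G → ℂ))
      (((card_prime_le hx).trans (card_nonzero_le x)).trans hb)
  have hex : ∀ χ : IrrCharacter G, ∃ θ : IrrCharacter N,
      classInner (fun n : N => (χ : G → ℂ) n) (θ : N → ℂ) ≠ 0 := by
    intro χ
    by_contra hcon
    push Not at hcon
    have hχN : IsCharacter N (fun n : N => (χ : G → ℂ) n) := isCharacter_comp N.subtype (isIrr_isCharacter χ.2)
    have h0 := classFunction_eq_zero (isCharacter_isClassFunction hχN) fun θ hθ => hcon ⟨θ, hθ⟩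
    have h2 := congrFun h0 1
    simp only [Pi.zero_apply, OneMemClass.coe_one] at h2
    exact isIrr_apply_one_ne_zero χ.2 h2
  choose θ hθ using hex
  have hdeg : ∀ χ ∈ B, p ∣ charDegree (θ χ : N → ℂ) := by
    intro χ hχ
    obtain ⟨d, hd0, hd⟩ := isIrr_apply_one (θ χ).2
    obtain ⟨D, hD0, hD⟩ := isIrr_apply_one χ.2
    obtain ⟨⟨k, hk⟩, h2⟩ := S0887.result N (χ : G → ℂ) χ.2 (θ χ : N → ℂ) (θ χ).2 (hθ χ) D d hD hd
    have h3 : charDegree (χ : G → ℂ) = D := charDegree_eq_of hD
    have h4 : charDegree (θ χ : N → ℂ) = d := charDegree_eq_of hd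
    rw [h4]
    rw [hk, Nat.mul_div_cancel_left _ hd0] at h2
    have h5 : p ∣ d * k := by
      rw [← hk, ← h3]
      exact (Finset.mem_filter.1 hχ).2
    exact (hp.dvd_mul.1 h5).resolve_right fun h => hN (h.trans h2)
  have hcard : B.card ≤ N.index * (B.image θ).card := by
    refine Finset.card_le_mul_card_image B _ ?_
    intro t ht
    refine card_over_le N t _ ?_
    intro χ hχ
    obtain ⟨-, h2⟩ := Finset.mem_filter.1 hχ
    rw [← h2]
    exact hθ χ
  refine Many.of_card_irr (B.image θ) ?_ ?_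
  · intro t ht
    obtain ⟨χ, hχ, rfl⟩ := Finset.mem_image.1 ht
    exact hdeg χ hχ
  · have h1 : (m - 1) * o * N.index < (B.image θ).card * N.index := by
      rw [mul_comm (B.image θ).card]
      omega
    have h2 := Nat.lt_of_mul_lt_mul_right h1
    exact lt_of_le_of_lt (Nat.mul_le_mul_left _ ho) h2

end Cfsg.Agent.H153.Dl
end
end
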