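import Cfsg.Agent.H153.Dl.RFi24
import Cfsg.Agent.H153.Dl.K24.O3_m3
import Cfsg.Agent.Lib.ListFast
set_option linter.all false

/-!
# `Fi24` : numbers of fixed points of words, table O1 (helper153)

Generated data and kernel checks: `(w, f₁, f₂)` with `f₁`, `f₂` the numbers of fixed points of `w` and `w²`.
-/

set_option autoImplicit false
set_option maxRecDepth 100000
set_option Elab.async false

namespace Cfsg.Agent.H153.Dl.K24

open Cfsg Cfsg.Agent.H153.Dl Cfsg.Agent.H153.Dl.PR
open Cfsg.Spor.Fi24 (Gen)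

private noncomputable def _root_.Cfsg.Agent.LsF.ffd0694_0 : {f // @Cfsg.Agent.H153.Dl.PR.chk = f} := ⟨_, by first | (delta Cfsg.Agent.H153.Dl.PR.chk; rewrite [Cfsg.Agent.LsF.and_eq, Cfsg.Agent.LsF.instAppend_eq]; exact rfl) | exact rfl⟩
section
open Cfsg.Agent.Lib.PermNet Cfsg.Agent.Lib.PermNetFix Cfsg.Agent.Fischer.Fi24RepDef Cfsg.Agent.Fischer.Fi24Rep
open Cfsg.Agent.Fischer.Fi24RepOrb (UG)

/-- Do the two generators commute? -/
private def cmB (x y : Gen) : Bool :=
  Bool.rec (Bool.rec true (Bool.rec true false (adj y x)) (fst y)) (Bool.rec (Bool.rec true false (adj x y)) true (fst y)) (fst x)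

private theorem cmB_spec {x y : Gen} (h : cmB x y = true) : rho0 x * rho0 y = rho0 y * rho0 x := by
  have key : fst x = fst y ∨ (fst x = true ∧ fst y = false ∧ adj x y = false) ∨
      (fst y = true ∧ fst x = false ∧ adj y x = false) := by
    revert h; cases x <;> cases y <;> decide
  rcases key with h | ⟨h1, h2, h3⟩ | ⟨h1, h2, h3⟩
  · exact rho0_comm_same h
  · exact rho0_comm_mixed h1 h2 h3
  · exact (rho0_comm_mixed h1 h2 h3).symm

private theorem prd_cons' (x : Gen) (l : List Gen) : prd (x :: l) = rho0 x * prd l := List.prod_cons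

private theorem prd_app' (u v : List Gen) : prd (u ++ v) = prd u * prd v := by
  induction u with
  | nil => exact (one_mul _).symm
  | cons a u ih => exact (prd_cons' a _).trans ((congrArg (fun t => rho0 a * t) ih).trans
      ((mul_assoc _ _ _).symm.trans (congrArg (fun t => t * prd v) (prd_cons' a u).symm)))

/-- The first `x` of the word is moved to the front and removed. -/
private noncomputable def pullG (x : Gen) (v : List Gen) : (List Gen → Bool) → Bool :=
  List.rec (motive := fun _ => (List Gen → Bool) → Bool) (fun _ => false)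
    (fun y v ih k => Bool.rec (Bool.rec false (ih fun v' => k (y :: v')) (cmB x y)) (k v) (decide (y = x))) v

private theorem pullG_spec (x : Gen) : ∀ (v : List Gen) (k : List Gen → Bool), pullG x v k = true →
    ∃ v', k v' = true ∧ prd v = rho0 x * prd v'
  | [], _, h => Bool.noConfusion h
  | y :: v, k, h => by
    replace h : (Bool.rec (Bool.rec false (pullG x v fun v' => k (y :: v')) (cmB x y)) (k v) (decide (y = x)) : Bool) = true := h
    cases h1 : decide (y = x) with
    | true =>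
      rw [h1] at h
      exact ⟨v, h, of_decide_eq_true h1 ▸ prd_cons' y v⟩
    | false =>
      rw [h1] at h
      cases h2 : cmB x y with
      | false => rw [h2] at h; exact Bool.noConfusion h
      | true =>
        rw [h2] at h
        obtain ⟨v', h3, h4⟩ := pullG_spec x v _ h
        refine ⟨y :: v', h3, ?_⟩
        rw [prd_cons', prd_cons', h4, ← mul_assoc, ← mul_assoc, cmB_spec h2]

/-- Equality of words up to commuting letters. -/
private noncomputable def eqT (u : List Gen) : List Gen → Bool :=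
  List.rec (motive := fun _ => List Gen → Bool) (fun v => List.rec true (fun _ _ _ => false) v)
    (fun x _ ih v => pullG x v ih) u

private theorem eqT_spec : ∀ u v : List Gen, eqT u v = true → prd u = prd v
  | [], [], _ => rfl
  | [], _ :: _, h => Bool.noConfusion h
  | x :: u, v, h => by
    obtain ⟨v', h1, h2⟩ := pullG_spec x v (eqT u) h
    rw [prd_cons', h2, eqT_spec u v' h1]

private theorem rw_prd (l : List Gen) : R24.rho (R24.word l) = prd l := (rho_word l).trans (prd_eq l)

/-- The moved points, on the planes cut down to the points which are counted. -/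
private noncomputable def mvU (w : List Net) (m : ℕ) : ℕ :=
  Nat.rec (motive := fun _ => ℕ) 0 (fun b ih => seq (Nat.land (plane 19 b) UG) fun P =>
    seq (appWord w P) fun x => Nat.lor (Nat.xor x P) ih) m

private theorem mvU_bit (l : List Gen) {p : ℕ} (hp : UG.testBit p = true) : ∀ m : ℕ,
    (mvU (nw l false) m).testBit p = (movedAux 19 (nw l false) m).testBit p
  | 0 => rfl
  | m + 1 => by
    have e : mvU (nw l false) (m + 1) = (appWord (nw l false) (plane 19 m &&& UG) ^^^ (plane 19 m &&& UG)) ||| mvU (nw l false) m :=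
      (seq_eq (Nat.land (plane 19 m) UG) fun P => seq (appWord (nw l false) P) fun x => Nat.lor (Nat.xor x P) (mvU (nw l false) m)).trans
        (seq_eq (appWord (nw l false) (plane 19 m &&& UG)) fun x => Nat.lor (Nat.xor x (plane 19 m &&& UG)) (mvU (nw l false) m))
    have hq : UG.testBit (wperm (nw l false) p) = true := by
      rw [← rho_word]; exact cnt24.inv _ p hp
    rw [e, movedAux_succ, Nat.testBit_or, Nat.testBit_or, mvU_bit l hp m, Nat.testBit_xor, Nat.testBit_xor,
      testBit_appWord (wok l false), testBit_appWord (wok l false), Nat.testBit_and, Nat.testBit_and, hp, hq,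
      Bool.and_true, Bool.and_true]

private noncomputable def cntU (l : List Gen) : ℕ :=
  Lib.PermNetOrbit.pc 19 (seq (mvU (nw l false) 19) fun x => Nat.xor UG (Nat.land UG x))

private theorem cntU_eq (l : List Gen) : cntU l = R24.Fx (R24.word l) := by
  have e : UG &&& mvU (nw l false) 19 = UG &&& moved 19 (nw l false) := by
    apply Nat.eq_of_testBit_eq
    intro p
    rw [Nat.testBit_and, Nat.testBit_and]
    cases hp : UG.testBit p with
    | false => rw [Bool.false_and, Bool.false_and]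
    | true => exact congrArg (fun t => true && t) (mvU_bit l hp 19)
  have e1 : (seq (mvU (nw l false) 19) fun x => Nat.xor UG (Nat.land UG x)) = UG ^^^ (UG &&& mvU (nw l false) 19) :=
    seq_eq (mvU (nw l false) 19) fun x => Nat.xor UG (Nat.land UG x)
  have e2 : fxm R24 19 l = UG ^^^ (UG &&& moved 19 (nw l false)) := fxm_eq (R := R24) (k := 19) l
  have e3 : (seq (mvU (nw l false) 19) fun x => Nat.xor UG (Nat.land UG x)) = fxm R24 19 l := by rw [e1, e2, e]
  delta cntU
  rw [e3]
  exact (Fx_word cnt24 l).symm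

private theorem Fx_of {l l' c : List Gen} (h : prd l * prd c = prd c * prd l') : R24.Fx (R24.word l) = R24.Fx (R24.word l') := by
  refine Eq.trans ?_ (Fx_conj cnt24 (R24.word c) (R24.word l'))
  refine congrArg (fun s : Equiv.Perm ℕ => {p : ℕ | R24.U.testBit p = true ∧ s p = p}.ncard)
    (show R24.rho (R24.word l) = R24.rho (R24.word c * R24.word l' * (R24.word c)⁻¹) from ?_)
  rw [R24.rho.map_mul, R24.rho.map_mul, R24.rho.map_inv, rw_prd, rw_prd, rw_prd, ← h, mul_inv_cancel_right]

/-- The numbers are those of a conjugate word with fewer changes of the numbering. -/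
private theorem chk_of {l : List Gen} {f g : ℕ} (l₀ c l' : List Gen) (h₀ : prd l = prd l₀)
    (h : Bool.rec false (Bool.rec false (Nat.beq (cntU (l' ++ l')) g) (Nat.beq (cntU l') f)) (eqT (l₀ ++ c) (c ++ l')) = true) :
    chk R24 19 (l, f, g) = true := by
  cases h1 : eqT (l₀ ++ c) (c ++ l') with
  | false => rw [h1] at h; exact Bool.noConfusion h
  | true =>
    rw [h1] at h
    cases h2 : Nat.beq (cntU l') f with
    | false => rw [h2] at h; exact Bool.noConfusion h
    | true =>
      rw [h2] at h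
      have h3 : prd l * prd c = prd c * prd l' := by
        rw [h₀, ← prd_app', ← prd_app']
        exact eqT_spec _ _ h1
      have h4 : prd (l ++ l) * prd c = prd c * prd (l' ++ l') := by
        rw [prd_app', prd_app', mul_assoc, h3, ← mul_assoc, h3, mul_assoc]
      have e1 : Lib.PermNetOrbit.pc 19 (fxm R24 19 l) = cntU l' :=
        (Fx_word cnt24 l).symm.trans ((Fx_of h3).trans (cntU_eq l').symm)
      have e2 : Lib.PermNetOrbit.pc 19 (fxm R24 19 (l ++ l)) = cntU (l' ++ l') :=
        (Fx_word cnt24 (l ++ l)).symm.trans ((Fx_of h4).trans (cntU_eq (l' ++ l')).symm)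
      exact Bool.and_eq_true_iff.2 ⟨(congrArg (fun t => Nat.beq t f) e1).trans h2, (congrArg (fun t => Nat.beq t g) e2).trans h⟩

end

theorem O1_0 : chk R24 19 ([.k, .a, .l], 360, 3512) = true :=
  chk_of [.k, .a, .l] [] [.k, .a, .l] rfl (by decide +kernel)

theorem O1_1 : chk R24 19 ([.c, .a, .b, .d, .h], 48, 378) = true :=
  chk_of [.c, .a, .b, .d, .h] [] [.a, .c, .b, .d, .h] rfl (by decide +kernel)

theorem O1_2 : chk R24 19 ([.e, .f, .b, .d, .c, .a, .h], 4, 6) = true :=
  chk_of [.e, .f, .b, .d, .c, .a, .h] [] [.e, .b, .d, .f, .a, .c, .h] rfl (by decide +kernel)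

theorem O1_3 : chk R24 19 ([.d, .g, .e, .i, .f, .c, .b], 11, 21) = true :=
  chk_of [.d, .g, .e, .i, .f, .c, .b] [.d] [.c, .e, .g, .b, .d, .f, .i] rfl (by decide +kernel)

theorem O1_4 : chk R24 19 ([.b, .f, .h, .d, .e, .i, .c], 19, 45) = true :=
  chk_of [.b, .f, .h, .d, .e, .i, .c] [] [.h, .b, .f, .d, .i, .c, .e] rfl (by decide +kernel)

theorem O1_5 : chk R24 19 ([.b, .k, .c, .i, .h, .e, .f], 28, 162) = true :=
  chk_of [.b, .k, .c, .i, .h, .e, .f] [] [.e, .b, .f, .i, .k, .c, .h] rfl (by decide +kernel)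

theorem O1_6 : chk R24 19 ([.b, .h, .g, .c, .k, .l, .i], 325, 1485) = true :=
  chk_of [.b, .h, .g, .c, .k, .l, .i] [] [.g, .h, .b, .i, .k, .c, .l] rfl (by decide +kernel)

theorem O1_7 : chk R24 19 ([.c, .i, .d, .g, .j, .h, .e, .a, .k], 0, 6) = true :=
  chk_of [.c, .i, .d, .g, .j, .h, .e, .a, .k] [] [.a, .c, .g, .d, .i, .j, .k, .e, .h] rfl (by decide +kernel)

theorem O1_8 : chk R24 19 ([.k, .e, .c, .i, .d, .g, .l, .f, .h], 1, 9) = true :=
  chk_of [.k, .e, .c, .i, .d, .g, .l, .f, .h] [] [.c, .e, .g, .d, .f, .i, .k, .h, .l] rfl (by decide +kernel)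

theorem O1_9 : chk R24 19 ([.f, .c, .i, .l, .a, .h, .d, .e, .k], 9, 29) = true :=
  chk_of [.f, .c, .i, .l, .a, .h, .d, .e, .k] [.i] [.a, .c, .h, .l, .f, .d, .i, .k, .e] rfl (by decide +kernel)

theorem O1_10 : chk R24 19 ([.k, .g, .j, .i, .f, .h, .d, .b, .a], 0, 504) = true :=
  chk_of [.k, .g, .j, .i, .f, .h, .d, .b, .a] [.i] [.g, .h, .b, .f, .d, .i, .j, .k, .a] rfl (by decide +kernel)

theorem O1_11 : chk R24 19 ([.h, .d, .g, .c, .h, .d, .a, .j, .e, .l, .k], 0, 128) = true :=
  chk_of [.h, .d, .g, .c, .h, .d, .a, .j, .e, .l, .k] [] [.a, .g, .h, .l, .d, .j, .k, .c, .h, .d, .e] rfl (by decide +kernel)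

/-- The table. -/
def O1 : List (List Gen × ℕ × ℕ) := [([.k, .a, .l], 360, 3512),
  ([.c, .a, .b, .d, .h], 48, 378),
  ([.e, .f, .b, .d, .c, .a, .h], 4, 6),
  ([.d, .g, .e, .i, .f, .c, .b], 11, 21),
  ([.b, .f, .h, .d, .e, .i, .c], 19, 45),
  ([.b, .k, .c, .i, .h, .e, .f], 28, 162),
  ([.b, .h, .g, .c, .k, .l, .i], 325, 1485),
  ([.c, .i, .d, .g, .j, .h, .e, .a, .k], 0, 6),
  ([.k, .e, .c, .i, .d, .g, .l, .f, .h], 1, 9),
  ([.f, .c, .i, .l, .a, .h, .d, .e, .k], 9, 29),
  ([.k, .g, .j, .i, .f, .h, .d, .b, .a], 0, 504),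
  ([.h, .d, .g, .c, .h, .d, .a, .j, .e, .l, .k], 0, 128)]

theorem O1_ok : ∀ q ∈ O1, chk R24 19 q = true :=
  List.forall_mem_cons.2 ⟨O1_0, (List.forall_mem_cons.2 ⟨O1_1, (List.forall_mem_cons.2 ⟨O1_2, (List.forall_mem_cons.2 ⟨O1_3, (List.forall_mem_cons.2 ⟨O1_4, (List.forall_mem_cons.2 ⟨O1_5, (List.forall_mem_cons.2 ⟨O1_6, (List.forall_mem_cons.2 ⟨O1_7, (List.forall_mem_cons.2 ⟨O1_8, (List.forall_mem_cons.2 ⟨O1_9, (List.forall_mem_cons.2 ⟨O1_10, (List.forall_mem_cons.2 ⟨O1_11, (fun _ h => absurd h (by simp))⟩)⟩)⟩)⟩)⟩)⟩)⟩)⟩)⟩)⟩)⟩)⟩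

end Cfsg.Agent.H153.Dl.K24
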